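/-
Involution centralisers of shape `2^{1+6}.L₃(2)`: a Clifford basis of the extraspecial group.
-/
import Cfsg.Agent.HL.Main
import Cfsg.Agent.PLoc.XS

set_option autoImplicit false

namespace Cfsg.Agent.HX

open HJ Subgroup PLoc
open scoped commutatorElement

variable {G : Type*} [Group G]

/-- a group of class two with squares in `{1, z}` -/
structure X0 (z : G) (Q : Subgroup G) : Prop where
  z2 : z * z = 1
  z1 : z ≠ 1
  le : ∀ x ∈ Q, x * z = z * x
  comm : ∀ x ∈ Q, ∀ y ∈ Q, x * y = y * x ∨ x * y = y * x * z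
  sq : ∀ x ∈ Q, x * x = 1 ∨ x * x = z

/-- the hypothesis on the centraliser of `z` -/
structure XQ (z : G) (Q : Subgroup G) : Prop extends X0 z Q where
  norm : ∀ h, h * z = z * h → ∀ x ∈ Q, h * x * h⁻¹ ∈ Q
  card : Nat.card Q = 128
  cardH : Nat.card (centralizer ({z} : Set G)) = 21504
  cent : ∀ h, h * z = z * h → (∀ x ∈ Q, h * x = x * h) → h = 1 ∨ h = z
  zmem : z ∈ Q

open Classical in
/-- the commutator form -/
noncomputable def bf (x y : G) : Bool := decide (x * y ≠ y * x)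

open Classical in
/-- the squaring form -/
noncomputable def kf (x : G) : Bool := decide (x * x ≠ 1)

/-- `1` or `z` -/
def ez (z : G) (b : Bool) : G := cond b z 1

theorem bf_symm (x y : G) : bf x y = bf y x := by simp [bf, eq_comm]
theorem bf_self (x : G) : bf x x = false := by simp [bf]
theorem bf_false {x y : G} : bf x y = false ↔ x * y = y * x := by simp [bf]
theorem bf_map {K : Type*} [Group K] (φ : G ≃* K) (x y : G) : bf (φ x) (φ y) = bf x y :=
  decide_eq_decide.mpr (by simp only [← map_mul, ne_eq, φ.injective.eq_iff])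
theorem kf_map {K : Type*} [Group K] (φ : G ≃* K) (x : G) : kf (φ x) = kf x :=
  decide_eq_decide.mpr (by simp only [← map_mul, ne_eq, map_eq_one_iff φ φ.injective])
theorem bf_inv (x y : G) : bf x⁻¹ y = bf x y :=
  decide_eq_decide.mpr (not_congr Commute.inv_left_iff)
theorem kf_inv (x : G) : kf x⁻¹ = kf x :=
  decide_eq_decide.mpr (by simp only [← mul_inv_rev, ne_eq, inv_eq_one])

section
variable {z : G} {Q : Subgroup G} (h : X0 z Q)
include h

theorem X0.ez_inj {a b : Bool} (e : ez z a = ez z b) : a = b := by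
  have := h.z1
  cases a <;> cases b <;> simp_all [ez]

theorem X0.ez_mul (a b : Bool) : ez z a * ez z b = ez z (a ^^ b) := by
  cases a <;> cases b <;> simp [ez, h.z2]

theorem X0.ez_comm {x : G} (hx : x * z = z * x) (a : Bool) : x * ez z a = ez z a * x := by
  cases a <;> simp [ez, hx]

theorem X0.bf_eq {x y : G} (hx : x ∈ Q) (hy : y ∈ Q) : x * y = y * x * ez z (bf x y) := by
  by_cases e : x * y = y * x
  · simp [bf, ez, e]
  · simpa [bf, ez, e] using (h.comm x hx y hy).resolve_left e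

theorem X0.kf_eq {x : G} (hx : x ∈ Q) : x * x = ez z (kf x) := by
  by_cases e : x * x = 1
  · simp [kf, ez, e]
  · simpa [kf, ez, e] using (h.sq x hx).resolve_left e

theorem X0.bf_mul {x y w : G} (hx : x ∈ Q) (hy : y ∈ Q) (hw : w ∈ Q) :
    bf (x * y) w = (bf x w ^^ bf y w) := by
  refine h.ez_inj (mul_left_cancel (a := w * (x * y)) ?_)
  rw [← h.bf_eq (mul_mem hx hy) hw, mul_assoc, h.bf_eq hy hw, ← mul_assoc, ← mul_assoc,
    h.bf_eq hx hw, ← h.ez_mul, mul_assoc _ (ez _ _) y, ← h.ez_comm (h.le y hy)]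
  group

theorem X0.kf_mul {x y : G} (hx : x ∈ Q) (hy : y ∈ Q) :
    kf (x * y) = (kf x ^^ kf y ^^ bf x y) := by
  refine h.ez_inj ?_
  rw [← h.kf_eq (mul_mem hx hy), ← h.ez_mul, ← h.ez_mul, ← h.kf_eq hx, ← h.kf_eq hy, bf_symm,
    mul_assoc, ← mul_assoc y, h.bf_eq hy hx, mul_assoc _ (ez _ _) y, ← h.ez_comm (h.le y hy)]
  group

end

theorem star0 {z : G} (h : X0 z ⊤) (φ : MulAut G) (φ7 : ∀ x, φ (φ (φ (φ (φ (φ (φ x)))))) = x)
    (fix : ∀ x, φ x = x ∨ φ x = x * z → x = 1 ∨ x = z) {w : G} (hw : kf w = true) :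
    ∃ u, kf u = true ∧ bf u (φ u) = true ∧ bf u (φ (φ u)) = true ∧ bf u (φ (φ (φ u))) = true := by
  have m1 : ∀ x y w : G, bf (x * y) w = (bf x w ^^ bf y w) := fun _ _ _ =>
    h.bf_mul trivial trivial trivial
  have m2 : ∀ x y w : G, bf w (x * y) = (bf w x ^^ bf w y) := fun _ _ w => by
    rw [bf_symm, m1, bf_symm w, bf_symm w]
  have m3 : ∀ x y : G, kf (x * y) = (kf x ^^ kf y ^^ bf x y) := fun _ _ => h.kf_mul trivial trivial
  have p : kf (w * φ w * φ (φ w) * φ (φ (φ w)) * φ (φ (φ (φ w))) * φ (φ (φ (φ (φ w)))) *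
      φ (φ (φ (φ (φ (φ w)))))) = false := by
    have e : φ (w * φ w * φ (φ w) * φ (φ (φ w)) * φ (φ (φ (φ w))) * φ (φ (φ (φ (φ w)))) *
        φ (φ (φ (φ (φ (φ w)))))) = w⁻¹ * ((w * φ w * φ (φ w) * φ (φ (φ w)) * φ (φ (φ (φ w))) *
        φ (φ (φ (φ (φ w)))) * φ (φ (φ (φ (φ (φ w)))))) * w) := by
      simp only [map_mul, φ7]; group
    generalize _ * φ (φ (φ (φ (φ (φ w))))) = P at e
    rcases fix P ((h.comm P trivial w trivial).imp (fun e1 => by rw [e, e1]; group)
      fun e1 => by rw [e, e1]; group) with rfl | rfl <;> simp [kf, h.z2]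
  have c4 : bf w (φ (φ (φ (φ w)))) = bf w (φ (φ (φ w))) := by
    rw [← bf_map φ, ← bf_map φ, ← bf_map φ, φ7, bf_symm]
  have c5 : bf w (φ (φ (φ (φ (φ w))))) = bf w (φ (φ w)) := by
    rw [← bf_map φ, ← bf_map φ, φ7, bf_symm]
  have c6 : bf w (φ (φ (φ (φ (φ (φ w)))))) = bf w (φ w) := by rw [← bf_map φ, φ7, bf_symm]
  have s : ∀ x, bf (φ x) w = bf w (φ x) := fun x => bf_symm _ _
  simp only [m1, m3, bf_map, kf_map, hw, c4, c5, c6] at p
  rcases h1 : bf w (φ w) <;> rcases h2 : bf w (φ (φ w)) <;> rcases h3 : bf w (φ (φ (φ w))) <;>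
    simp only [h1, h2, h3] at p <;> first
    | exact absurd p (by decide)
    | exact ⟨w, hw, h1, h2, h3⟩
    | (refine ⟨φ w * φ (φ (φ w)) * φ (φ (φ (φ (φ w)))), ?_⟩
       simp only [map_mul, φ7, m1, m2, m3, bf_map, kf_map, s, hw, c4, c5, c6, h1, h2, h3, bf_self]
       decide)
    | (refine ⟨φ (φ w) * φ (φ (φ (φ (φ (φ w))))) * φ (φ (φ w)), ?_⟩
       simp only [map_mul, φ7, m1, m2, m3, bf_map, kf_map, s, hw, c4, c5, c6, h1, h2, h3, bf_self]
       decide)
    | (refine ⟨φ (φ (φ w)) * φ (φ w) * φ w, ?_⟩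
       simp only [map_mul, φ7, m1, m2, m3, bf_map, kf_map, s, hw, c4, c5, c6, h1, h2, h3, bf_self]
       decide)

variable [Finite G] {z : G} {Q : Subgroup G} (h : XQ z Q)
include h

theorem XQ.two {W : Subgroup G} (hz : z ∈ W) (e : Nat.card W = 2) : ∀ x ∈ W, x = 1 ∨ x = z := by
  intro x hx
  by_contra hc
  push Not at hc
  obtain ⟨y, -, hy⟩ := (Nat.card_eq_two_iff' (1 : W)).mp e
  exact hc.2 (congrArg Subtype.val ((hy ⟨x, hx⟩ fun e => hc.1 (congrArg Subtype.val e)).trans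
    (hy ⟨z, hz⟩ fun e => h.z1 (congrArg Subtype.val e)).symm))

theorem XQ.xs {D : Subgroup G} (hD : D ≤ Q) (hz : z ∈ D)
    (hc : ∀ d ∈ D, (∀ x ∈ D, x * d = d * x) → d = 1 ∨ d = z) : PG.XS 2 D z := by
  have k : ∀ {x}, x = 1 ∨ x = z → x ∈ zpowers z := by
    rintro _ (rfl | rfl)
    exacts [one_mem _, mem_zpowers _]
  refine ⟨orderOf_eq_prime (by rw [pow_two, h.z2]) h.z1, hz, fun x hx => h.le x (hD hx),
    fun d hd => k (hc d hd.1 hd.2), commutator_le.mpr fun x hx y hy => k ?_,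
    fun x hx => k (by rw [pow_two]; exact h.sq x (hD hx))⟩
  refine (h.comm x (hD hx) y (hD hy)).imp commutatorElement_eq_one_iff_mul_comm.mpr fun e => ?_
  rw [commutatorElement_def, e, mul_assoc _ z, ← h.le _ (inv_mem (hD hx)), mul_assoc _ _ y⁻¹,
    mul_assoc _ z, ← h.le _ (inv_mem (hD hy))]
  group

theorem XQ.fix {f : G} (hf : f * z = z * f) (f7 : f ^ 7 = 1) (fQ : f ∉ Q) :
    ∀ x ∈ Q, f * x = x * f ∨ f * x = x * z * f → x = 1 ∨ x = z := by
  have : Fact (Nat.Prime 7) := ⟨by norm_num⟩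
  have hP : IsPGroup 7 (zpowers f) := isPGroup_zpowers (k := 1) (by simpa using f7)
  have md : ∀ W : Subgroup G, (∀ x ∈ W, f * x * f⁻¹ ∈ W) →
      Nat.card W ≡ Nat.card (W ⊓ centralizer {f} : Subgroup G) [MOD 7] := fun W hW => by
    rw [← centralizer_zpowers]
    exact card_modEq_card_inf_centralizer hP (zpowers_le.mpr (mem_normalizer_of_conj_mem hW))
  have mz : z ∈ Q ⊓ centralizer {f} := ⟨h.zmem, mem_centralizer_singleton_iff.mpr hf.symm⟩
  have c2 : Nat.card (Q ⊓ centralizer {f} : Subgroup G) = 2 := by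
    have c1 := md Q (h.norm f hf)
    have d := card_dvd_of_le (inf_le_left : Q ⊓ centralizer {f} ≤ Q)
    rw [h.card] at c1 d
    obtain ⟨i, hi, e⟩ := (Nat.dvd_prime_pow Nat.prime_two (m := 7)).mp d
    by_contra c2
    have : i = 4 ∨ i = 7 := by
      rw [e] at c1 c2
      interval_cases i <;> simp_all [Nat.ModEq]
    rcases this with rfl | rfl
    · have X := h.xs inf_le_left mz fun d hd hc => by
        by_contra n
        obtain ⟨y, hy⟩ := not_forall.mp (mt (h.cent d (h.le d hd.1)) n)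
        push Not at hy
        have i2 : (centralizer {d}).relIndex Q = 2 := index_eq_two_iff.mpr ⟨⟨y, hy.1⟩, fun b => by
          have e1 : bf y d = true := by simpa [bf] using hy.2.symm
          have := h.bf_mul b.2 hy.1 hd.1
          simp only [mem_subgroupOf, mem_centralizer_singleton_iff, coe_mul, ← bf_false, this, e1]
          cases bf (b : G) d <;> simp⟩
        have c3 := md (centralizer {d} ⊓ Q) fun x hx => ⟨mem_centralizer_singleton_iff.mpr (by
          have := cj_comm (g := f) (mem_centralizer_singleton_iff.mp hx.1)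
          rwa [cj_of_comm (mem_centralizer_singleton_iff.mp hd.2).symm] at this),
          h.norm f hf x hx.2⟩
        have c4 := card_inf_mul_relIndex (centralizer {d}) Q
        rw [inf_assoc, inf_eq_right (b := Q ⊓ _).mpr fun x hx =>
          mem_centralizer_singleton_iff.mpr (hc x hx), e] at c3
        rw [i2, h.card] at c4
        unfold Nat.ModEq at c3
        omega
      obtain ⟨x, hx, y, hy, e1⟩ := X.pair' Nat.prime_two
        (mt (X.abel_iff Nat.prime_two).mp c2)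
      have e2 := X.card Nat.prime_two hx hy e1
      have X' := X.cent hx hy e1
      obtain ⟨x', hx', y', hy', e3⟩ := X'.pair' Nat.prime_two
        (mt (X'.abel_iff Nat.prime_two).mp (by omega))
      have e4 := X'.card Nat.prime_two hx' hy' e3
      have e5 := (X'.cent hx' hy' e3).mem
      rw [card_eq_one.mp (by omega : Nat.card (_ ⊓ centralizer {y'} : Subgroup G) = 1)] at e5
      exact h.z1 e5
    · have e1 : Q ⊓ centralizer {f} = Q := eq_of_le_of_card_ge inf_le_left (by rw [e, h.card]; rfl)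
      rcases h.cent f hf fun x hx => (mem_centralizer_singleton_iff.mp (e1.ge hx).2).symm with e | e
      exacts [fQ (e ▸ one_mem _), fQ (e ▸ h.zmem)]
  intro x hx e
  refine h.two mz c2 x ⟨hx, mem_centralizer_singleton_iff.mpr ?_⟩
  rcases e with e | e
  · exact e.symm
  · have e2 : Commute (f * f) x := by
      show f * f * x = x * (f * f)
      rw [mul_assoc, e, ← mul_assoc, ← mul_assoc, e, mul_assoc _ f z, hf]
      simp [mul_assoc, ← mul_assoc z z, h.z2]
    have e3 := e2.pow_left 4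
    rw [← pow_two, ← pow_mul, pow_succ, f7, one_mul] at e3
    exact e3.symm.eq

/-- a Clifford basis permuted by the element of order seven -/
theorem XQ.star {f : G} (hf : f * z = z * f) (f7 : f ^ 7 = 1) (fQ : f ∉ Q) :
    ∃ Y : ℕ → G, (∀ i, Y i ∈ Q ∧ kf (Y i) = true ∧ f * Y i * f⁻¹ = Y (i + 1)) ∧
      ∀ i < 7, ∀ j < 7, i ≠ j → bf (Y i) (Y j) = true := by
  let φ : MulAut Q := Q.normalizerMonoidHom ⟨f, mem_normalizer_of_conj_mem (h.norm f hf)⟩
  have hφ : ∀ x, (φ x : G) = f * x * f⁻¹ := fun _ => rfl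
  have φ7 : ∀ x, φ (φ (φ (φ (φ (φ (φ x)))))) = x := fun x => Subtype.ext (by
    simp only [hφ]
    calc _ = f ^ 7 * x * (f ^ 7)⁻¹ := by simp only [pow_succ, pow_zero, one_mul, mul_inv_rev, mul_assoc]
      _ = _ := by simp [f7])
  obtain ⟨w, hw, w2⟩ : ∃ w ∈ Q, w * w ≠ 1 := by
    by_contra n
    push Not at n
    obtain ⟨x, hx, e⟩ := exists_not_mem_list (Q := Q) [1, z] (by rw [h.card]; simp)
    refine e ((by simp : x ∈ [1, z] ↔ _).mpr (h.cent x (h.le x hx) fun y hy => ?_))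
    rw [← inv_eq_of_sq (n _ (mul_mem hx hy)), mul_inv_rev, inv_eq_of_sq (n x hx),
      inv_eq_of_sq (n y hy)]
  have b1 : ∀ x y : Q, bf x y = bf (x : G) y := fun x y => by simp [bf, Subtype.ext_iff]
  have k1 : ∀ x : Q, kf x = kf (x : G) := fun x => by simp [kf, Subtype.ext_iff]
  obtain ⟨u, u0, u1, u2, u3⟩ := star0 (z := (⟨z, h.zmem⟩ : Q)) ⟨Subtype.ext h.z2,
    fun e => h.z1 (congrArg Subtype.val e), fun x _ => Subtype.ext (h.le x x.2),
    fun x _ y _ => (h.comm x x.2 y y.2).imp Subtype.ext Subtype.ext,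
    fun x _ => (h.sq x x.2).imp Subtype.ext Subtype.ext⟩ φ φ7 (fun x hx =>
      (h.fix hf f7 fQ x x.2 (hx.imp (fun e => mul_inv_eq_iff_eq_mul.mp (congrArg Subtype.val e))
        fun e => mul_inv_eq_iff_eq_mul.mp (congrArg Subtype.val e))).imp Subtype.ext Subtype.ext)
    (w := ⟨w, hw⟩) (by simpa [kf, Subtype.ext_iff] using w2)
  have u4 : bf u (φ (φ (φ (φ u)))) = true := by
    rw [← bf_map φ, ← bf_map φ, ← bf_map φ, φ7, bf_symm, u3]
  have u5 : bf u (φ (φ (φ (φ (φ u))))) = true := by rw [← bf_map φ, ← bf_map φ, φ7, bf_symm, u2]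
  have u6 : bf u (φ (φ (φ (φ (φ (φ u)))))) = true := by rw [← bf_map φ, φ7, bf_symm, u1]
  have s : ∀ x, bf (φ x) u = bf u (φ x) := fun x => bf_symm _ _
  refine ⟨fun i => (φ^[i] u : Q), fun i => ⟨(φ^[i] u).2, ?_, ?_⟩, fun i hi j hj e => ?_⟩
  · rw [← k1, ← u0]
    induction i with
    | zero => rfl
    | succ i ih => rw [Function.iterate_succ_apply', kf_map, ih]
  · simp only [Function.iterate_succ_apply', hφ]
  · rw [← b1]
    interval_cases i <;> interval_cases j <;> first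
      | exact absurd rfl e
      | simp only [Function.iterate_succ_apply, Function.iterate_zero_apply, bf_map, s, u1, u2, u3,
          u4, u5, u6]

omit h in
theorem xq_of {z : G} (hz : orderOf z = 2) {Q : Subgroup (centralizer ({z} : Set G))} [Q.Normal]
    (hQ : IsExtraspecial 2 Q) (hcard : Nat.card Q = 128)
    (h2c : centralizer (Q : Set (centralizer ({z} : Set G))) ≤ Q)
    (e : Nat.card (centralizer ({z} : Set G) ⧸ Q) = 168) :
    XQ z (Q.map (centralizer ({z} : Set G)).subtype) := by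
  obtain ⟨z2, z1⟩ := sq_of_order hz
  obtain ⟨⟨hP, hF, hC⟩, hZ⟩ := hQ
  have cz : ∀ {x}, x * z = z * x → x ∈ centralizer ({z} : Set G) := mem_centralizer_singleton_iff.mpr
  have mz : (⟨z, cz rfl⟩ : centralizer ({z} : Set G)) ∈ Q := h2c fun x _ =>
    Subtype.ext (mem_centralizer_singleton_iff.mp x.2)
  have Z : ∀ x ∈ center Q, (x : G) = 1 ∨ (x : G) = z := fun x hx => by
    obtain ⟨y, -, hy⟩ := (Nat.card_eq_two_iff' (1 : center Q)).mp hZ
    by_cases x1 : (x : G) = 1
    · exact Or.inl x1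
    · have e1 := hy ⟨x, hx⟩ fun e => x1 (congrArg (fun y : center Q => (y : G)) e)
      have e2 := hy ⟨⟨_, mz⟩, mem_center_iff.mpr fun x =>
        Subtype.ext (Subtype.ext (mem_centralizer_singleton_iff.mp x.1.2))⟩
        fun e => z1 (congrArg (fun y : center Q => (y : G)) e)
      exact Or.inr (congrArg (fun y : center Q => (y : G)) (e1.trans e2.symm))
  refine ⟨⟨z2, z1, ?_, ?_, ?_⟩, ?_, by rw [card_map_of_injective (subtype_injective _), hcard], ?_,
    ?_, ⟨_, mz, rfl⟩⟩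
  · rintro _ ⟨x, -, rfl⟩
    exact mem_centralizer_singleton_iff.mp x.2
  · rintro _ ⟨x, hx, rfl⟩ _ ⟨y, hy, rfl⟩
    have := Z ⁅(⟨x, hx⟩ : Q)⁻¹, (⟨y, hy⟩ : Q)⁻¹⁆
      (hC ▸ commutator_mem_commutator (mem_top _) (mem_top _))
    refine this.imp (fun e => ?_) fun e => ?_
    · have e : (x : G)⁻¹ * (y : G)⁻¹ * (x : G)⁻¹⁻¹ * (y : G)⁻¹⁻¹ = 1 := e
      show (x : G) * y = y * x
      rw [← mul_one ((y : G) * x), ← e]; group
    · have e : (x : G)⁻¹ * (y : G)⁻¹ * (x : G)⁻¹⁻¹ * (y : G)⁻¹⁻¹ = z := e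
      exact (show (x : G) * y = y * x * ((x : G)⁻¹ * (y : G)⁻¹ * (x : G)⁻¹⁻¹ * (y : G)⁻¹⁻¹) by
        group).trans (congrArg _ e)
  · rintro _ ⟨x, hx, rfl⟩
    have := Z _ (hF ▸ PLoc.pow_mem_frattini hP ⟨x, hx⟩)
    rw [pow_two] at this
    exact this
  · rintro h hh _ ⟨x, hx, rfl⟩
    exact ⟨_, ‹Q.Normal›.conj_mem x hx ⟨h, cz hh⟩, rfl⟩
  · rw [card_eq_card_quotient_mul_card_subgroup Q, e, hcard]
  · intro h hh hx
    have m : (⟨h, cz hh⟩ : centralizer ({z} : Set G)) ∈ Q := h2c fun x hx' =>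
      Subtype.ext (hx x ⟨x, hx', rfl⟩).symm
    exact Z ⟨_, m⟩ (mem_center_iff.mpr fun x => Subtype.ext (Subtype.ext (hx x ⟨x, x.2, rfl⟩).symm))

end Cfsg.Agent.HX
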