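/-
Fusion of involutions controlled by fourth powers.
-/
import Cfsg.Agent.HX.Abs1

set_option autoImplicit false

namespace Cfsg.Agent.HX

open HJ Subgroup PLoc

variable {G : Type*} [Group G]

/-- `z` is the only involution that is a fourth power in the centraliser of `z` and `v` -/
structure P4 (z v : G) : Prop where
  cz : v * z = z * v
  v2 : v * v = 1
  v1 : v ≠ 1
  vz : v ≠ z
  ex : ∃ w, w * z = z * w ∧ w * v = v * w ∧ w ^ 4 = z
  al : ∀ w, w * z = z * w → w * v = v * w → w ^ 4 * w ^ 4 = 1 → w ^ 4 = 1 ∨ w ^ 4 = z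

variable [Finite G] {z : G} {Q : Subgroup G} (h : XQ z Q)
include h

theorem XQ.syl4 {v : G} (p : P4 z v) : ∃ S, IsSylowOf 2 S (centralizer {v}) ∧
    (∃ w ∈ S, w ^ 4 = z) ∧ ∀ w ∈ S, w * z = z * w := by
  obtain ⟨w, h1, h2, h3⟩ := p.ex
  obtain ⟨S, hS, hw⟩ := exists_isSylowOf_ge (H := centralizer {v} ⊓ centralizer {z})
    (isPGroup_zpowers (x := w) (p := 2) (k := 3) (by rw [show 2 ^ 3 = 4 + 4 from rfl, pow_add, h3, h.z2]))
    (zpowers_le.mpr ⟨mem_centralizer_singleton_iff.mpr h2, mem_centralizer_singleton_iff.mpr h1⟩)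
  have hw := hw (mem_zpowers w)
  refine ⟨S, isSylowOf_of_maximal hS.isP (hS.le.trans inf_le_left) fun R hR hR' hl => ?_,
    ⟨w, hw, h3⟩, fun x hx => mem_centralizer_singleton_iff.mp (hS.le hx).2⟩
  by_contra ne
  obtain ⟨x, e2, e3, e4⟩ := exists_mem_normalizer_not_mem hR (lt_of_le_of_ne hl (Ne.symm ne))
  have m := hS.le (conj_mem_of_mem_normalizer e3 hw)
  have := (p.al _ (mem_centralizer_singleton_iff.mp m.2) (mem_centralizer_singleton_iff.mp m.1)
    (by rw [conj_pow, h3, conj_mul, h.z2]; simp)).resolve_left (by simpa [conj_pow, h3] using h.z1)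
  rw [conj_pow, h3] at this
  exact e4 (hS.le_of_le_normalizer (hR.to_le (zpowers_le.mpr e2)) (zpowers_le.mpr
    ⟨hR' e2, mem_centralizer_singleton_iff.mpr (comm_of_cj this)⟩) (zpowers_le.mpr e3)
    (mem_zpowers x))

omit [Finite G] h in
theorem cj_cent (g v : G) : cj g (centralizer {v}) = centralizer {g * v * g⁻¹} := by
  rw [← centralizer_zpowers, cj_centralizer, cj_zpowers, centralizer_zpowers]

theorem XQ.not_conj {v : G} (p : P4 z v) : ¬ IsConj v z := fun e => by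
  obtain ⟨g, e⟩ := isConj_iff.mp e
  obtain ⟨S, hS, -, h2⟩ := h.syl4 p
  have h3 := hS.cj g
  rw [cj_cent, e] at h3
  have l := h3.le_of_normalizes (IsPGroup.of_card (n := 7) h.card)
    (fun x hx => mem_centralizer_singleton_iff.mpr (h.le x hx)) fun x hx =>
      mem_normalizer_of_conj_mem (h.norm x (mem_centralizer_singleton_iff.mp (h3.le hx)))
  have k : ∀ x ∈ Q, g * z * g⁻¹ * x = x * (g * z * g⁻¹) := fun x hx => by
    have := cj_comm (g := g) (h2 _ (mem_cj.mp (l hx)))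
    rw [show g * (g⁻¹ * x * g) * g⁻¹ = x by group] at this
    exact this.symm
  rcases h.cent _ (k z h.zmem) k with e1 | e1
  · exact h.z1 (by simpa using e1)
  · exact p.vz (by simpa using e.trans e1.symm)

theorem XQ.conj4 {v v' : G} (p : P4 z v) (p' : P4 z v') (e : IsConj v v') :
    ∃ c, c * z = z * c ∧ c * v * c⁻¹ = v' := by
  obtain ⟨g, e⟩ := isConj_iff.mp e
  obtain ⟨S, hS, ⟨w, h1, h2⟩, -⟩ := h.syl4 p
  obtain ⟨S', hS', -, h3⟩ := h.syl4 p'
  have h4 := hS.cj g
  rw [cj_cent, e] at h4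
  obtain ⟨n, h5, h6⟩ := h4.exists_cj_eq hS'
  have m : n * g * w * (n * g)⁻¹ ∈ S' := by rw [← h6, ← cj_mul]; exact conj_mem_cj.mpr h1
  have := (p'.al _ (h3 _ m) (mem_centralizer_singleton_iff.mp (hS'.le m))
    (by rw [conj_pow, h2, conj_mul, h.z2]; simp)).resolve_left
      (by rw [conj_pow, h2, conj_eq_one_iff]; exact h.z1)
  rw [conj_pow, h2] at this
  exact ⟨n * g, comm_of_cj this, by
    rw [cj_mul', e, cj_of_comm (mem_centralizer_singleton_iff.mp h5)]⟩

theorem XQ.three {v v' : G} (p : P4 z v) (p' : P4 z v')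
    (n : ∀ c, c * z = z * c → c * v * c⁻¹ ≠ v') {x y : G}
    (t : ∀ u : G, orderOf u = 2 → IsConj u x ∨ IsConj u y) : False := by
  have o : ∀ u : G, u * u = 1 → u ≠ 1 → IsConj u x ∨ IsConj u y := fun u h1 h2 =>
    t u (orderOf_eq_prime (by rw [pow_two, h1]) h2)
  have n' : ¬ IsConj v v' := fun e => (h.conj4 p p' e).elim fun c hc => n c hc.1 hc.2
  rcases o z h.z2 h.z1 with e | e <;> rcases o v p.v2 p.v1 with e1 | e1 <;>
    rcases o v' p'.v2 p'.v1 with e2 | e2 <;> first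
    | exact h.not_conj p (e1.trans e.symm)
    | exact h.not_conj p' (e2.trans e.symm)
    | exact n' (e1.trans e2.symm)

end Cfsg.Agent.HX
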