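/-
Finite facts about the covers of `2^{1+6}.L₃(2)`.
-/
import Cfsg.Agent.HX.Data

set_option autoImplicit false
set_option maxRecDepth 100000
set_option synthInstance.maxSize 4000

namespace Cfsg.Agent.HX

open HJ Subgroup

section
variable {G : Type*} [Group G] {gs : List G}

theorem leQ (h : Sat cQ.RL gs) (hn : gs.length = 7 := by rfl) : Le (clo gs) 128 :=
  cQ.le hn h (le_triv rfl) le_bot
theorem leL (h : Sat cL.RL gs) (hn : gs.length = 4 := by rfl) : Le (clo gs) 336 :=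
  cL.le hn h (base_sel gs [0]) (c7.le rfl (h.ren [0] (by decide)) (le_triv rfl) le_bot)
theorem leA (h : Sat cA.RL gs) (hn : gs.length = 11 := by rfl) : Le (clo gs) 43008 :=
  cA.le hn h (base_sel gs [7, 8, 9, 10]) (leL (h.ren [7, 8, 9, 10] (by decide)))
theorem leB (h : Sat cB.RL gs) (hn : gs.length = 11 := by rfl) : Le (clo gs) 43008 :=
  cB.le hn h (base_sel gs [7, 8, 9, 10]) (leL (h.ren [7, 8, 9, 10] (by decide)))

end

theorem satQ : Sat cQ.RL gQ := satA.ren (List.range 7) (by decide)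
theorem cloQ' : clo gQ' = clo gQ :=
  le_antisymm (clo_le_clo (W := WQ') (by decide +kernel)) (clo_le_clo (W := WQ) (by decide +kernel))

theorem fQ : ∀ x ∈ clo gQ, x = 1 ∨ x = z0 ∨ ∃ w ∈ gQ, x * w * x⁻¹ * w⁻¹ = z0 :=
  (PC.Enum.of chQ_ok chQ_mem (chQ_len ▸ (leQ satQ).2)).all (by decide +kernel)

/-- the stabiliser of `v` modulo `κ` -/
def S2 (v : Γ) {κ : Γ} (hκ : κ * κ = 1) : Subgroup Γ where
  carrier := {w | w * κ = κ * w ∧ (w * v * w⁻¹ = v ∨ w * v * w⁻¹ = v * κ)}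
  one_mem' := by simp
  mul_mem' := by
    rintro a b ⟨h1, h2⟩ ⟨h3, h4⟩
    refine ⟨Commute.mul_left h1 h3, ?_⟩
    rw [cj_mul']
    rcases h4 with e | e <;> rw [e]
    · exact h2
    · rw [← conj_mul, cj_of_comm h1]
      rcases h2 with e | e <;> simp [e, mul_assoc, hκ]
  inv_mem' := by
    rintro a ⟨h1, h2⟩
    refine ⟨Commute.inv_left h1, h2.imp (fun e => ?_) fun e => ?_⟩
    · conv_lhs => rw [← e]
      group
    · have : v = a * (v * κ) * a⁻¹ := by rw [← conj_mul, cj_of_comm h1, e, mul_assoc, hκ, mul_one]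
      conv_lhs => rw [this]
      group

theorem enum2 {gs : List Γ} {v κ : Γ} (hκ : κ * κ = 1) {W : List (List ℕ)} {k : List ℕ}
    {ch : List (ℕ × List Γ)} (e : (W.map fun l => cd2 v κ (ev (atm gs) l)) = k)
    (hK : Le (clo gs) (W.length * PC.clen ch)) (ok : PC.chainOk ch = true)
    (mem : ∀ T ∈ ch, ∀ t ∈ T.2, t ∈ clo gs)
    (h : (∀ T ∈ ch, ∀ t ∈ T.2, t * κ = κ * t ∧ (t * v * t⁻¹ = v ∨ t * v * t⁻¹ = v * κ)) ∧
      k.Nodup ∧ W ≠ []) :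
    PC.Enum (clo gs ⊓ S2 v hκ) ch ∧ ∀ w ∈ clo gs, cd2 v κ w ∈ k := by
  have m2 : ∀ T ∈ ch, ∀ t ∈ T.2, t ∈ clo gs ⊓ S2 v hκ := fun T hT t ht =>
    ⟨mem T hT t ht, h.1 T hT t ht⟩
  have hF : ∀ t, ∀ c ∈ clo gs ⊓ S2 v hκ, cd2 v κ (t * c) = cd2 v κ t := by
    rintro t c ⟨-, h1, h2⟩
    unfold cd2
    rw [cj_mul', cj_mul', ← conj_mul (b := c), cj_of_comm h1]
    rcases h2 with e | e <;> rw [e]
    rw [mul_assoc v, hκ, mul_one, min_comm]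
  replace e : (W.map (ev (atm gs))).map (cd2 v κ) = k := List.map_map.trans e
  have c1 := PC.le_card ok m2
  have c2 := hK.2
  have c3 := List.length_pos_iff.mpr h.2.2
  refine ⟨PC.Enum.of ok m2 ?_, fun w hw => by_contra fun n => ?_⟩
  · have := card_ge inf_le_left _ hF (list_mem rfl) (e ▸ h.2.1)
    rw [List.length_map] at this
    exact Nat.le_of_mul_le_mul_left (this.trans c2) c3
  · have := card_ge inf_le_left _ hF (T := w :: W.map (ev (atm gs)))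
      (List.forall_mem_cons.mpr ⟨hw, list_mem rfl⟩)
      (by rw [List.map_cons, e]; exact List.nodup_cons.mpr ⟨n, h.2.1⟩)
    rw [List.length_cons, List.length_map] at this
    have c4 : 0 < Nat.card (clo gs ⊓ S2 v hκ : Subgroup Γ) := Nat.card_pos
    nlinarith

/-- the model of an involution whose centraliser has `z` as only fourth power -/
structure Good (gs : List Γ) (κ v : Γ) : Prop where
  mem : v ∈ clo gs
  sq : (v * v = 1 ∨ v * v = κ) ∧ v ≠ 1 ∧ v ≠ κ ∧ v ≠ z0 ∧ v ≠ z0 * κ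
  ex : ∃ w ∈ clo gs, (w * v * w⁻¹ = v ∨ w * v * w⁻¹ = v * κ) ∧ (w ^ 4 = z0 ∨ w ^ 4 = z0 * κ)
  al : ∀ w ∈ clo gs, w * v * w⁻¹ = v ∨ w * v * w⁻¹ = v * κ → w ^ 4 * w ^ 4 = 1 ∨ w ^ 4 * w ^ 4 = κ →
    (w ^ 4 = 1 ∨ w ^ 4 = κ) ∨ w ^ 4 = z0 ∨ w ^ 4 = z0 * κ

theorem km : m0 * m0 = 1 := by decide +kernel
theorem kz : z0 * m0 * (z0 * m0) = 1 := by decide +kernel
theorem cA1 : ∀ x ∈ clo gA, x * m0 = m0 * x := comm_clo (by decide +kernel)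
theorem cA2 : ∀ x ∈ clo gA, x * (z0 * m0) = z0 * m0 * x := comm_clo (by decide +kernel)
theorem cB2 : ∀ x ∈ clo gB, x * (z0 * m0) = z0 * m0 * x := comm_clo (by decide +kernel)

theorem eA1 : PC.Enum (clo gA ⊓ S2 (y0 * y1 * y2) km) chA1 ∧
    ∀ w ∈ clo gA, cd2 (y0 * y1 * y2) (m0) w ∈ kA1 :=
  enum2 km kA1_eq (by rw [chA1_len]; exact leA satA) chA1_ok chA1_mem (by decide +kernel)
theorem gA1 : Good gA (m0) (y0 * y1 * y2) :=
  ⟨list_mem (W := [[0, 2, 4]]) (by decide +kernel) _ (List.mem_singleton_self _), by decide +kernel,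
    ⟨_, ev_mem_clo _ wA1, by decide +kernel⟩, fun w h1 h2 => eA1.1.all
      (P := fun w => w ^ 4 * w ^ 4 = 1 ∨ w ^ 4 * w ^ 4 = m0 →
        (w ^ 4 = 1 ∨ w ^ 4 = m0) ∨ w ^ 4 = z0 ∨ w ^ 4 = z0 * (m0)) (by decide +kernel) w
      ⟨h1, cA1 w h1, h2⟩⟩
theorem eA2 : PC.Enum (clo gA ⊓ S2 (y0 * y1 * y2) kz) chA1 ∧
    ∀ w ∈ clo gA, cd2 (y0 * y1 * y2) (z0 * m0) w ∈ kA2 :=
  enum2 kz kA2_eq (by rw [chA1_len]; exact leA satA) chA1_ok chA1_mem (by decide +kernel)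
theorem gA2 : Good gA (z0 * m0) (y0 * y1 * y2) :=
  ⟨list_mem (W := [[0, 2, 4]]) (by decide +kernel) _ (List.mem_singleton_self _), by decide +kernel,
    ⟨_, ev_mem_clo _ wA2, by decide +kernel⟩, fun w h1 h2 => eA2.1.all
      (P := fun w => w ^ 4 * w ^ 4 = 1 ∨ w ^ 4 * w ^ 4 = z0 * m0 →
        (w ^ 4 = 1 ∨ w ^ 4 = z0 * m0) ∨ w ^ 4 = z0 ∨ w ^ 4 = z0 * (z0 * m0)) (by decide +kernel) w
      ⟨h1, cA2 w h1, h2⟩⟩
theorem eA3 : PC.Enum (clo gA ⊓ S2 (xa) km) chA3 ∧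
    ∀ w ∈ clo gA, cd2 (xa) (m0) w ∈ kA3 :=
  enum2 km kA3_eq (by rw [chA3_len]; exact leA satA) chA3_ok chA3_mem (by decide +kernel)
theorem gA3 : Good gA (m0) (xa) :=
  ⟨list_mem (W := [[16]]) (by decide +kernel) _ (List.mem_singleton_self _), by decide +kernel,
    ⟨_, ev_mem_clo _ wA3, by decide +kernel⟩, fun w h1 h2 => eA3.1.all
      (P := fun w => w ^ 4 * w ^ 4 = 1 ∨ w ^ 4 * w ^ 4 = m0 →
        (w ^ 4 = 1 ∨ w ^ 4 = m0) ∨ w ^ 4 = z0 ∨ w ^ 4 = z0 * (m0)) (by decide +kernel) w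
      ⟨h1, cA1 w h1, h2⟩⟩
theorem eA4 : PC.Enum (clo gA ⊓ S2 (y3 * xa) kz) chA4 ∧
    ∀ w ∈ clo gA, cd2 (y3 * xa) (z0 * m0) w ∈ kA4 :=
  enum2 kz kA4_eq (by rw [chA4_len]; exact leA satA) chA4_ok chA4_mem (by decide +kernel)
theorem gA4 : Good gA (z0 * m0) (y3 * xa) :=
  ⟨list_mem (W := [[6, 16]]) (by decide +kernel) _ (List.mem_singleton_self _), by decide +kernel,
    ⟨_, ev_mem_clo _ wA4, by decide +kernel⟩, fun w h1 h2 => eA4.1.all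
      (P := fun w => w ^ 4 * w ^ 4 = 1 ∨ w ^ 4 * w ^ 4 = z0 * m0 →
        (w ^ 4 = 1 ∨ w ^ 4 = z0 * m0) ∨ w ^ 4 = z0 ∨ w ^ 4 = z0 * (z0 * m0)) (by decide +kernel) w
      ⟨h1, cA2 w h1, h2⟩⟩
theorem eB1 : PC.Enum (clo gB ⊓ S2 (y0 * y1 * y2) kz) chB1 ∧
    ∀ w ∈ clo gB, cd2 (y0 * y1 * y2) (z0 * m0) w ∈ kB1 :=
  enum2 kz kB1_eq (by rw [chB1_len]; exact leB satB) chB1_ok chB1_mem (by decide +kernel)
theorem gB1 : Good gB (z0 * m0) (y0 * y1 * y2) :=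
  ⟨list_mem (W := [[0, 2, 4]]) (by decide +kernel) _ (List.mem_singleton_self _), by decide +kernel,
    ⟨_, ev_mem_clo _ wB1, by decide +kernel⟩, fun w h1 h2 => eB1.1.all
      (P := fun w => w ^ 4 * w ^ 4 = 1 ∨ w ^ 4 * w ^ 4 = z0 * m0 →
        (w ^ 4 = 1 ∨ w ^ 4 = z0 * m0) ∨ w ^ 4 = z0 ∨ w ^ 4 = z0 * (z0 * m0)) (by decide +kernel) w
      ⟨h1, cB2 w h1, h2⟩⟩
theorem eB2 : PC.Enum (clo gB ⊓ S2 (y0 * y1 * y3) kz) chB2 ∧
    ∀ w ∈ clo gB, cd2 (y0 * y1 * y3) (z0 * m0) w ∈ kB2 :=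
  enum2 kz kB2_eq (by rw [chB2_len]; exact leB satB) chB2_ok chB2_mem (by decide +kernel)
theorem gB2 : Good gB (z0 * m0) (y0 * y1 * y3) :=
  ⟨list_mem (W := [[0, 2, 6]]) (by decide +kernel) _ (List.mem_singleton_self _), by decide +kernel,
    ⟨_, ev_mem_clo _ wB2, by decide +kernel⟩, fun w h1 h2 => eB2.1.all
      (P := fun w => w ^ 4 * w ^ 4 = 1 ∨ w ^ 4 * w ^ 4 = z0 * m0 →
        (w ^ 4 = 1 ∨ w ^ 4 = z0 * m0) ∨ w ^ 4 = z0 ∨ w ^ 4 = z0 * (z0 * m0)) (by decide +kernel) w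
      ⟨h1, cB2 w h1, h2⟩⟩
theorem zA (x : Γ) (hx : x ∈ clo gA) (h : ∀ w ∈ gQ, x * w = w * x) : x ∈ [1, z0, m0, z0 * m0] :=
  eA2.1.all (P := fun x => (∀ w ∈ gQ, x * w = w * x) → x ∈ [1, z0, m0, z0 * m0]) (by decide +kernel)
    x ⟨hx, cA2 x hx, Or.inl (cj_of_comm (Commute.mul_right (Commute.mul_right (h _ (by simp))
      (h _ (by simp))) (h _ (by simp))))⟩ h
theorem zB (x : Γ) (hx : x ∈ clo gB) (h : ∀ w ∈ gQ, x * w = w * x) : x ∈ [1, z0, m0, z0 * m0] :=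
  eB1.1.all (P := fun x => (∀ w ∈ gQ, x * w = w * x) → x ∈ [1, z0, m0, z0 * m0]) (by decide +kernel)
    x ⟨hx, cB2 x hx, Or.inl (cj_of_comm (Commute.mul_right (Commute.mul_right (h _ (by simp))
      (h _ (by simp))) (h _ (by simp))))⟩ h
theorem nc : min xa.c (xa * m0).c ∉ kA1 ∧ min (y3 * xa).c (y3 * xa * (z0 * m0)).c ∉ kA2 ∧
    min (y0 * y1 * y3).c (y0 * y1 * y3 * (z0 * m0)).c ∉ kB1 := by decide +kernel

end Cfsg.Agent.HX
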