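/-
Bit vectors and the search for the action of `L₃(2)` on the orthogonal space.
-/
import Cfsg.Agent.HX.Data

set_option autoImplicit false
set_option maxRecDepth 100000
set_option synthInstance.maxSize 4000

namespace Cfsg.Agent.HX

open HJ

/-- bit vectors -/
@[ext] structure BV where
  n : ℕ
deriving DecidableEq

instance : Group BV where
  mul a b := ⟨a.n ^^^ b.n⟩
  one := ⟨0⟩
  inv a := a
  mul_assoc _ _ _ := BV.ext (Nat.xor_assoc _ _ _)
  one_mul _ := BV.ext (Nat.zero_xor _)
  mul_one _ := BV.ext (Nat.xor_zero _)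
  inv_mul_cancel _ := BV.ext (Nat.xor_self _)

/-- the linear map with given images of the basis -/
noncomputable def lin (as : List ℕ) (m : ℕ) : ℕ := frc m fun m =>
  List.rec (fun _ => 0) (fun a _ ih m => Nat.xor (Nat.mul a (Nat.mod m 2)) (ih (Nat.div m 2))) as m

theorem lin_cons (a : ℕ) (as : List ℕ) (m : ℕ) :
    lin (a :: as) m = (a * (m % 2)) ^^^ lin as (m / 2) := by
  simp only [lin, frc_eq]; rfl

theorem lin_nil (m : ℕ) : lin [] m = 0 := by simp only [lin, frc_eq]

theorem lin_xor (as : List ℕ) (m n : ℕ) : lin as (m ^^^ n) = lin as m ^^^ lin as n := by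
  induction as generalizing m n with
  | nil => simp [lin_nil]
  | cons a as ih =>
    have : a * ((m ^^^ n) % 2) = a * (m % 2) ^^^ a * (n % 2) := by
      rw [Nat.xor_mod_two_eq, Nat.add_mod]
      rcases Nat.mod_two_eq_zero_or_one m with h | h <;>
        rcases Nat.mod_two_eq_zero_or_one n with h' | h' <;> simp [h, h']
    rw [lin_cons, lin_cons, lin_cons, Nat.xor_div_two, ih, this]
    ac_rfl

theorem lin_zero (as : List ℕ) : lin as 0 = 0 := by simpa using lin_xor as 0 0

theorem lin_pow (as : List ℕ) (i : ℕ) : lin as (2 ^ i) = as.getD i 0 := by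
  induction as generalizing i with
  | nil => simp [lin_nil]
  | cons a as ih =>
    cases i with
    | zero => simp [lin_cons, lin_zero]
    | succ i => simp [lin_cons, pow_succ, ih]

def rows : List ℕ := [14068186145234338620, 11914935430398977370, 11053635144464832870, 10850976253656798870, 10838359357731006870, 10838310073733310870]
def NS : List ℕ := [1, 2, 3, 4, 5, 6, 8, 9, 10, 12, 16, 17, 18, 20, 24, 31, 32, 33, 34, 36, 40, 47, 48, 55, 59, 61, 62, 63]
def Sm : List ℕ := [2, 4, 8, 16, 32, 63]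

/-- the alternating form -/
noncomputable def bB (m n : ℕ) : Bool := (lin rows m).testBit n
/-- the quadratic form -/
def kB (m : ℕ) : Bool := Nat.testBit 16753814026744960894 m

theorem bB_xor (m m' n : ℕ) : bB (m ^^^ m') n = (bB m n ^^ bB m' n) := by
  simp only [bB, lin_xor, Nat.testBit_xor]

theorem bB_symm : ∀ m < 64, ∀ n < 64, bB m n = bB n m ∧ kB (m ^^^ n) = (kB m ^^ kB n ^^ bB m n) := by
  decide +kernel

theorem fB : ∀ m < 64, ((∀ i < 6, bB m (2 ^ i) = false) → m = 0) ∧
    ((∀ i < 6, bB m (2 ^ i) = true) → m = 63) ∧ (kB m = true → m ∈ NS) ∧ bB m 0 = false := by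
  decide +kernel

theorem fB2 : (∀ i < 6, kB (2 ^ i) = true ∧ ∀ j < 6, bB (2 ^ i) (2 ^ j) = decide (i ≠ j)) ∧
    ∀ b0 b1 b2 b3 b4 b5 : Bool, ∃ m < 64, bB m 1 = b0 ∧ bB m 2 = b1 ∧ bB m 4 = b2 ∧ bB m 8 = b3 ∧
      bB m 16 = b4 ∧ bB m 32 = b5 := by decide +kernel

/-- the relations of `L₃(2)` force one of three actions -/
def Leaf (as : List ℕ) : Prop := (∀ i < 6, lin as (lin as (2 ^ i)) = 2 ^ i) →
  (∀ i < 6, lin as (lin Sm (lin as (lin Sm (lin as (lin Sm (2 ^ i)))))) = 2 ^ i) →
  ∃ k < 7, ∃ c ∈ [ca, ca', cb], ∀ i < 6,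
    (lin Sm)^[6 * k] (lin as ((lin Sm)^[k] (2 ^ i))) = c.getD i 0

noncomputable instance (as : List ℕ) : Decidable (Leaf as) := by unfold Leaf; infer_instance

/-- loop over the non-singular vectors in a mask -/
noncomputable def lp (M : ℕ) (k : ℕ → ℕ → Bool) : Bool :=
  NS.all fun a => cond (M.testBit a) (frc (M &&& lin rows a) (k a)) true

theorem lp_sound {M a : ℕ} {k : ℕ → ℕ → Bool} (h : lp M k = true) (ha : a ∈ NS)
    (hM : M.testBit a = true) : k a (M &&& lin rows a) = true := by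
  simpa [hM] using List.all_eq_true.mp h a ha

theorem srch_ok : (lp 16753814026744960894 fun a0 M => lp M fun a1 M => lp M fun a2 M =>
    lp M fun a3 M => lp M fun a4 M => lp M fun a5 _ =>
      cond (Nat.beq (lin [a0, a1, a2, a3, a4, a5] a0) 1) (decide (Leaf [a0, a1, a2, a3, a4, a5]))
        true) = true := by decide +kernel

theorem srch {a : ℕ → ℕ} (h0 : ∀ i < 6, a i < 64) (h1 : ∀ i < 6, kB (a i) = true)
    (h2 : ∀ i < 6, ∀ j < 6, i ≠ j → bB (a i) (a j) = true) :
    Leaf [a 0, a 1, a 2, a 3, a 4, a 5] := by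
  have n : ∀ i < 6, a i ∈ NS := fun i hi => (fB _ (h0 i hi)).2.2.1 (h1 i hi)
  unfold kB at h1
  unfold bB at h2
  have := (lp_sound (lp_sound (lp_sound (lp_sound (lp_sound (lp_sound srch_ok
    (n 0 (by omega)) (h1 0 (by omega))) (n 1 (by omega)) (by simp [h1, h2])) (n 2 (by omega))
    (by simp [h1, h2])) (n 3 (by omega)) (by simp [h1, h2])) (n 4 (by omega)) (by simp [h1, h2]))
    (n 5 (by omega)) (by simp [h1, h2]))
  intro e
  have e1 := e 0 (by omega)
  rw [lin_pow] at e1
  rw [show Nat.beq (lin _ (a 0)) 1 = true from Nat.beq_eq.mpr e1] at this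
  exact of_decide_eq_true this e

end Cfsg.Agent.HX
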