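/-
Coordinates on the extraspecial group and the action of the two generators.
-/
import Cfsg.Agent.HX.Abs1
import Cfsg.Agent.HX.Srch
import Cfsg.Agent.HX.Facts

set_option autoImplicit false
set_option maxRecDepth 100000

namespace Cfsg.Agent.HX

open HJ Subgroup PLoc

variable {G : Type*} [Group G]

/-- the listed generators -/
abbrev yl (Y : ℕ → G) (z : G) : List G := [Y 0, Y 1, Y 2, Y 3, Y 4, Y 5, z]

/-- the basis of bit vectors -/
abbrev es : List BV := [⟨1⟩, ⟨2⟩, ⟨4⟩, ⟨8⟩, ⟨16⟩, ⟨32⟩, ⟨0⟩]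

/-- the word with given coordinates -/
def wd (m : ℕ) : List ℕ := ((List.range 6).filter m.testBit).map (2 * ·)

theorem ev_wd : ∀ m < 64, ev (atm es) (wd m) = ⟨m⟩ := by decide +kernel

/-- an isomorphism between the model and `Q` -/
structure QD (Δ : Subgroup (Γ × G)) (z : G) (Q : Subgroup G) : Prop where
  fn : Fn Δ
  inj : Inj Δ
  mz : (z0, z) ∈ Δ
  mem : ∀ x y, (x, y) ∈ Δ → x ∈ clo gQ ∧ y ∈ Q
  down : ∀ x ∈ clo gQ, ∃ y, (x, y) ∈ Δ
  lift : ∀ y ∈ Q, ∃ x, (x, y) ∈ Δ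

/-- a Clifford basis -/
structure St (z : G) (Q : Subgroup G) (Y : ℕ → G) : Prop where
  mem : ∀ i, Y i ∈ Q
  k : ∀ i, kf (Y i) = true
  b : ∀ i < 7, ∀ j < 7, i ≠ j → bf (Y i) (Y j) = true

variable [Finite G] {z : G} {Q : Subgroup G} (h : XQ z Q) {Y : ℕ → G} (s : St z Q Y)
include h s

theorem St.sat : Sat cQ.RL (yl Y z) := by
  have e : ∀ i < 6, atm (yl Y z) (2 * i) = Y i ∧ atm (yl Y z) (2 * i + 1) = (Y i)⁻¹ := fun i hi => by
    interval_cases i <;> exact ⟨rfl, rfl⟩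
  have e' : atm (yl Y z) 12 = z := rfl
  intro l hl
  rcases (by decide : ∀ l ∈ cQ.RL, l = [12, 12] ∨ (∃ i < 6, l = [2 * i, 2 * i, 12]) ∨
    ∃ i < 6, ∃ j < 6, i ≠ j ∧ l = [2 * i, 2 * j, 2 * i + 1, 2 * j + 1, 12]) l hl with
    rfl | ⟨i, hi, rfl⟩ | ⟨i, hi, j, hj, n, rfl⟩
  · simpa [e'] using h.z2
  · have := h.kf_eq (s.mem i)
    rw [s.k] at this
    simp only [ev_cons, ev_nil, e i hi, e', mul_one, ← mul_assoc, this]
    exact h.z2
  · have := h.bf_eq (s.mem i) (s.mem j)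
    rw [s.b i (by omega) j (by omega) n] at this
    simp only [ev_cons, ev_nil, e i hi, e j hj, e', mul_one, ← mul_assoc, this]
    calc _ = Y j * (Y i * z * (Y i)⁻¹) * ((Y j)⁻¹ * z) := by simp only [ez, cond, mul_assoc]
      _ = 1 := by rw [cj_of_comm (h.le _ (s.mem i)), ← mul_assoc, cj_of_comm (h.le _ (s.mem j)), h.z2]

theorem St.qd {gq : List Γ} (h1 : Sat cQ.RL gq) (h2 : clo gq = clo gQ) (h3 : gq.length = 7)
    (h4 : gq.getD 6 1 = z0) : QD (gr gq (yl Y z)) z Q ∧ clo (yl Y z) = Q := by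
  have fn : Fn (gr gq (yl Y z)) := fn_of_le (leQ (h1.zip (s.sat h) h3) (by simp [h3]))
    (h2 ▸ chQ_card) h3
  have mz : (z0, z) ∈ gr gq (yl Y z) := by
    have := ev_mem_gr (xs := gq) (ys := yl Y z) h3 [12]
    rwa [ev_cons, ev_cons, ev_nil, ev_nil, mul_one, mul_one, show atm gq 12 = z0 from h4] at this
  have inj : Inj (gr gq (yl Y z)) := fun x m => by
    rcases fQ x (h2 ▸ (gr_mem m h3).1) with e | e | ⟨w, hw, e⟩
    · exact e
    · exact absurd (fn.eq m mz e).symm h.z1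
    · obtain ⟨w', -, m'⟩ := gr_right (yl Y z) (h2 ▸ mem_clo hw : w ∈ clo gq) h3
      exact absurd (by simpa using (fn.eq (y := 1 * w' * 1⁻¹ * w'⁻¹) (by gm) mz e).symm) h.z1
  have eQ : clo (yl Y z) = Q := eq_of_le_of_card_ge (clo_le (by simp [s.mem, h.zmem]))
    (by rw [h.card, card_gr fn inj h3, h2]; exact chQ_card)
  exact ⟨⟨fn, inj, mz, fun x y m => h2 ▸ eQ ▸ gr_mem m h3, fun x hx =>
    (gr_right _ (h2 ▸ hx) h3).imp fun _ m => m.2, fun y hy =>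
    (gr_left gq (eQ.ge hy) h3).imp fun _ m => m.2⟩, eQ⟩

theorem St.clo : clo (yl Y z) = Q := (s.qd h satQ rfl rfl rfl).2

set_option hygiene false in
local notation "Θ" => gr es (yl Y z)

omit [Finite G] h s in
theorem th_ind {P : ℕ → G → Prop} (h0 : P 0 1) (hz : P 0 z) (hY : ∀ i < 6, P (2 ^ i) (Y i))
    (hm : ∀ m n x y, (⟨m⟩, x) ∈ Θ → (⟨n⟩, y) ∈ Θ → P m x → P n y → P (m ^^^ n) (x * y))
    (hi : ∀ m x, P m x → P m x⁻¹) {m : ℕ} {x : G} (hx : (⟨m⟩, x) ∈ Θ) : P m x := by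
  have : ∀ p ∈ Θ, P p.1.n p.2 := fun p hp => by
    induction hp using closure_induction with
    | mem p hp =>
      simp only [List.zip_cons_cons, List.zip_nil_right, List.mem_cons, List.not_mem_nil, or_false,
        Set.mem_setOf_eq] at hp
      rcases hp with rfl | rfl | rfl | rfl | rfl | rfl | rfl
      exacts [hY 0 (by omega), hY 1 (by omega), hY 2 (by omega), hY 3 (by omega), hY 4 (by omega),
        hY 5 (by omega), hz]
    | one => exact h0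
    | mul p q h1 h2 i1 i2 => exact hm _ _ _ _ h1 h2 i1 i2
    | inv p _ i1 => exact hi _ _ i1
  exact this _ hx

omit [Finite G] h s in
theorem th_lt {m : ℕ} {x : G} (hx : (⟨m⟩, x) ∈ Θ) : m < 64 :=
  th_ind (P := fun m _ => m < 2 ^ 6) (by omega) (by omega)
    (fun _ hi => Nat.pow_lt_pow_right (by omega) hi) (fun _ _ _ _ _ _ => Nat.xor_lt_two_pow)
    (fun _ _ e => e) hx

omit [Finite G] h s in
theorem th_Y {i : ℕ} (hi : i < 6) : ((⟨2 ^ i⟩ : BV), Y i) ∈ Θ := by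
  interval_cases i <;> exact mem_clo (by simp)

omit [Finite G] h s in
theorem th_wd {m : ℕ} (hm : m < 64) : ((⟨m⟩ : BV), ev (atm (yl Y z)) (wd m)) ∈ Θ :=
  ev_wd m hm ▸ ev_mem_gr (xs := es) (ys := yl Y z) rfl _

theorem St.thQ {m : BV} {x : G} (hx : (m, x) ∈ Θ) : x ∈ Q := s.clo h ▸ (gr_mem hx).2

theorem St.th {x : G} (hx : x ∈ Q) : ∃ m, (⟨m⟩, x) ∈ Θ :=
  (gr_left es (s.clo h ▸ hx)).elim fun m e => ⟨m.n, e.2⟩

theorem St.bf_th {m n : ℕ} {x y : G} (hx : (⟨m⟩, x) ∈ Θ) (hy : (⟨n⟩, y) ∈ Θ) : bf x y = bB m n := by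
  have k : ∀ n, ∀ y ∈ Q, (∀ i < 6, bf (Y i) y = bB (2 ^ i) n) → ∀ m x, (⟨m⟩, x) ∈ Θ →
      bf x y = bB m n := fun n y hy e m x hx =>
    th_ind (P := fun m x => bf x y = bB m n) (by simp [bf, bB, lin_zero])
      (by simp [bf, bB, lin_zero, h.le y hy]) e (fun _ _ _ _ h1 h2 i1 i2 => by
        rw [h.bf_mul (s.thQ h h1) (s.thQ h h2) hy, i1, i2, bB_xor])
      (fun _ _ e => (bf_inv _ _).trans e) hx
  refine k n y (s.thQ h hy) (fun i hi => ?_) m x hx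
  rw [bf_symm, (bB_symm _ (th_lt (th_Y (Y := Y) (z := z) hi)) _ (th_lt hy)).1]
  refine k _ _ (s.mem i) (fun j hj => ?_) _ _ hy
  rw [(fB2.1 j hj).2 i hi]
  by_cases e : j = i
  · simp [e, bf_self]
  · simp [e, s.b j (by omega) i (by omega) e]

theorem St.kf_th {m : ℕ} {x : G} (hx : (⟨m⟩, x) ∈ Θ) : kf x = kB m :=
  th_ind (P := fun m x => kf x = kB m) (by simp [kf, kB]) (by simp [kf, kB, h.z2])
    (fun i hi => by rw [s.k, (fB2.1 i hi).1]) (fun _ _ _ _ h1 h2 i1 i2 => by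
      rw [h.kf_mul (s.thQ h h1) (s.thQ h h2), i1, i2, s.bf_th h h1 h2,
        (bB_symm _ (th_lt h1) _ (th_lt h2)).2]) (fun _ _ e => (kf_inv _).trans e) hx

theorem St.th_inj {m n : ℕ} {x : G} (h1 : (⟨m⟩, x) ∈ Θ) (h2 : (⟨n⟩, x) ∈ Θ) : m = n := by
  have m1 : ((⟨m ^^^ n⟩ : BV), x * x⁻¹) ∈ Θ := pm_mul h1 (pm_inv h2)
  refine Nat.eq_of_xor_eq_zero ((fB _ (th_lt m1)).1 fun i hi => ?_)
  rw [← s.bf_th h m1 (th_Y hi)]; simp [bf]

theorem St.th_fn {m : ℕ} {x y : G} (h1 : (⟨m⟩, x) ∈ Θ) (h2 : (⟨m⟩, y) ∈ Θ) :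
    ∃ b, x = y * ez z b := by
  have m1 : ((⟨m ^^^ m⟩ : BV), y⁻¹ * x) ∈ Θ := pm_mul (pm_inv h2) h1
  rcases h.cent _ (h.le _ (s.thQ h m1)) fun w hw => by
    obtain ⟨n, m2⟩ := s.th h hw
    rw [← bf_false, s.bf_th h m1 m2]; simp [bB, lin_zero] with e | e
  · exact ⟨false, by simp [ez, inv_mul_eq_one.mp e]⟩
  · exact ⟨true, inv_mul_eq_iff_eq_mul.mp e⟩

/-- `t` acts on coordinates as `f` -/
def Act (Y : ℕ → G) (z : G) (f : ℕ → ℕ) (t : G) : Prop :=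
  ∀ m x, (⟨m⟩, x) ∈ Θ → ((⟨f m⟩ : BV), t * x * t⁻¹) ∈ Θ

omit [Finite G] h s in
theorem Act.mul {f g : ℕ → ℕ} {t u : G} (h1 : Act Y z f t) (h2 : Act Y z g u) :
    Act Y z (fun m => f (g m)) (t * u) := fun m x hx => cj_mul' t u x ▸ h1 _ _ (h2 m x hx)

omit [Finite G] h s in
theorem Act.pow {f : ℕ → ℕ} {t : G} (h1 : Act Y z f t) (k : ℕ) : Act Y z f^[k] (t ^ k) := by
  induction k with
  | zero => intro m x hx; simpa using hx
  | succ k ih => rw [pow_succ]; exact ih.mul h1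

omit [Finite G] h s in
theorem act_of {as : List ℕ} {t : G} (hz : t * z = z * t)
    (e : ∀ i < 6, ((⟨as.getD i 0⟩ : BV), t * Y i * t⁻¹) ∈ Θ) : Act Y z (lin as) t := fun _ _ hx =>
  th_ind (P := fun m x => ((⟨lin as m⟩ : BV), t * x * t⁻¹) ∈ Θ)
    (by rw [lin_zero, mul_one, mul_inv_cancel]; exact pm_one)
    (by rw [lin_zero, cj_of_comm hz]; exact mem_clo (by simp)) (fun i hi => lin_pow as i ▸ e i hi)
    (fun _ _ _ _ _ _ i1 i2 => by rw [lin_xor, ← conj_mul]; exact pm_mul i1 i2)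
    (fun _ _ i1 => by rw [← conj_inv]; exact pm_inv i1) hx

theorem St.act_Q {f : ℕ → ℕ} {t : G} (h1 : Act Y z f t) (ht : t ∈ Q) :
    ∀ i < 6, f (2 ^ i) = 2 ^ i := fun i hi => by
  obtain ⟨n, m1⟩ := s.th h ht
  have m2 : ((⟨n ^^^ 2 ^ i ^^^ n⟩ : BV), t * Y i * t⁻¹) ∈ Θ :=
    pm_mul (pm_mul m1 (th_Y hi)) (pm_inv m1)
  rw [s.th_inj h (h1 _ _ (th_Y hi)) m2, Nat.xor_comm n, Nat.xor_assoc, Nat.xor_self, Nat.xor_zero]

theorem St.cls {σ x : G} (h1 : σ * z = z * σ) (h2 : ∀ i, σ * Y i * σ⁻¹ = Y (i + 1))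
    (h3 : x * z = z * x) (h4 : x * x ∈ Q) (h5 : x * σ * (x * σ) * (x * σ) ∈ Q) :
    Act Y z (lin Sm) σ ∧ ∃ x', x' * z = z * x' ∧ ∃ c ∈ [ca, ca', cb],
      ∀ i < 6, ((⟨c.getD i 0⟩ : BV), x' * Y i * x'⁻¹) ∈ Θ := by
  have aσ : Act Y z (lin Sm) σ := act_of h1 fun i hi => by
    rw [h2]
    rcases Nat.lt_succ_iff_lt_or_eq.mp hi with hi | rfl
    · have := th_Y (Y := Y) (z := z) (Nat.succ_lt_succ hi)
      interval_cases i <;> exact this
    · obtain ⟨m, m1⟩ := s.th h (s.mem 6)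
      rwa [(fB _ (th_lt m1)).2.1 fun i hi => by
        rw [← s.bf_th h m1 (th_Y hi), s.b 6 (by omega) i (by omega) (by omega)]] at m1
  choose a ha using fun i => s.th h (h.norm x h3 _ (s.mem i))
  have ax : Act Y z (lin [a 0, a 1, a 2, a 3, a 4, a 5]) x := act_of h3 fun i hi => by
    interval_cases i <;> exact ha _
  obtain ⟨k, -, c, hc, e⟩ := srch (a := a) (fun i _ => th_lt (ha i))
    (fun i _ => by rw [← s.kf_th h (ha i), ← s.k i]; exact kf_map (MulAut.conj x) _)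
    (fun i hi j hj n => by
      rw [← s.bf_th h (ha i) (ha j), ← s.b i (by omega) j (by omega) n]
      exact bf_map (MulAut.conj x) _ _)
    (s.act_Q h (ax.mul ax) h4) (s.act_Q h (((ax.mul aσ).mul (ax.mul aσ)).mul (ax.mul aσ)) h5)
  exact ⟨aσ, σ ^ (6 * k) * (x * σ ^ k), Commute.mul_left (Commute.pow_left h1 _)
    (Commute.mul_left h3 (Commute.pow_left h1 _)), c, hc, fun i hi =>
      e i hi ▸ ((aσ.pow _).mul (ax.mul (aσ.pow _))) _ _ (th_Y hi)⟩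

theorem St.adj {gq : List Γ} (h1 : Sat cQ.RL gq) (h2 : HJ.clo gq = HJ.clo gQ) (h3 : gq.length = 7)
    (h4 : gq.getD 6 1 = z0) {t0 : Γ} {c : List ℕ} (h5 : t0 * z0 * t0⁻¹ = z0 ∧ ∀ i < 6, c.getD i 0 < 64 ∧
      ∃ b, t0 * gq.getD i 1 * t0⁻¹ = ev (atm gq) (wd (c.getD i 0)) * ez z0 b)
    {t : G} (hz : t * z = z * t) (e : ∀ i < 6, ((⟨c.getD i 0⟩ : BV), t * Y i * t⁻¹) ∈ Θ) :
    ∃ u, u * z = z * u ∧ (t0, u) ∈ normalizer (gr gq (yl Y z) : Set (Γ × G)) := by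
  have D := (s.qd h h1 h2 h3 h4).1
  have k : ∀ i, i < 6 → ∃ b, (t0 * gq.getD i 1 * t0⁻¹, t * Y i * t⁻¹ * ez z b) ∈ gr gq (yl Y z) :=
    fun i hi => by
      obtain ⟨l, b, e1⟩ := h5.2 i hi
      obtain ⟨b', e2⟩ := s.th_fn h (e i hi) (th_wd l)
      refine ⟨b' ^^ b, ?_⟩
      rw [e1, e2, mul_assoc, h.ez_mul, ← Bool.xor_assoc, Bool.xor_self, Bool.false_xor]
      refine pm_mul (ev_mem_gr h3 _) ?_
      cases b
      exacts [pm_one, D.mz]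
  choose! b hb using k
  obtain ⟨m, hm, e0⟩ := fB2.2 (b 0) (b 1) (b 2) (b 3) (b 4) (b 5)
  have e1 : ∀ i < 6, bB m (2 ^ i) = b i := fun i hi => by interval_cases i <;> simp [e0]
  have mq := th_wd (Y := Y) (z := z) hm
  generalize ev (atm (yl Y z)) (wd m) = q at mq
  have qz := h.le _ (s.thQ h mq)
  have k2 : ∀ i < 6, (t0 * gq.getD i 1 * t0⁻¹, t * q * Y i * (t * q)⁻¹) ∈ gr gq (yl Y z) :=
    fun i hi => by
      have := hb i hi
      rwa [cj_mul', h.bf_eq (s.thQ h mq) (s.mem i), s.bf_th h mq (th_Y hi), e1 i hi, mul_assoc _ q,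
        h.ez_comm qz, ← mul_assoc (Y i), mul_inv_cancel_right, ← conj_mul,
        cj_of_comm (h.ez_comm hz _)]
  refine ⟨t * q, Commute.mul_left hz qz, norm_clo fun p hp => ?_⟩
  obtain ⟨i, hi, rfl⟩ := List.getElem_of_mem hp
  have l : i < 7 := by simpa [h3] using hi
  have e2 : (gq.zip (yl Y z))[i] = (gq.getD i 1, (yl Y z).getD i 1) := by
    rw [List.getElem_zip, List.getD_eq_getElem, List.getD_eq_getElem]
  rw [e2]
  rcases Nat.lt_succ_iff_lt_or_eq.mp l with l | rfl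
  · have := k2 i l
    interval_cases i <;> exact this
  · rw [h4]
    show (t0 * z0 * t0⁻¹, t * q * z * (t * q)⁻¹) ∈ _
    rw [h5.1, cj_of_comm (Commute.mul_left hz qz : t * q * z = z * (t * q))]
    exact D.mz

end Cfsg.Agent.HX
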