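/-
Groups of Held type: identification of the involution centraliser.
-/
import Cfsg.Agent.HX.Th
import Cfsg.Agent.HX.Abs2

set_option autoImplicit false
set_option maxRecDepth 100000
set_option synthInstance.maxSize 4000

namespace Cfsg.Agent.HX

open HJ Subgroup PLoc

variable {G : Type*} [Group G]

/-- the centraliser of `z` is the quotient of the model by `κ` -/
structure MD (gs : List Γ) (κ : Γ) (z : G) (Δ : Subgroup (Γ × G)) : Prop where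
  fn : Fn Δ
  mz : (z0, z) ∈ Δ
  mκ : (κ, 1) ∈ Δ
  ker : ∀ x, (x, 1) ∈ Δ → x = 1 ∨ x = κ
  cz : ∀ x y, (x, y) ∈ Δ → y * z = z * y
  down : ∀ x ∈ clo gs, ∃ y, (x, y) ∈ Δ
  lift : ∀ y, y * z = z * y → ∃ x ∈ clo gs, (x, y) ∈ Δ

section
variable {gs : List Γ} {κ : Γ} {z : G} {Δ : Subgroup (Γ × G)} (M : MD gs κ z Δ)
include M

theorem MD.eq {x x' : Γ} {y y' : G} (h1 : (x, y) ∈ Δ) (h2 : (x', y') ∈ Δ) (e : x = x' ∨ x = x' * κ) :
    y = y' := e.elim (M.fn.eq h1 h2) fun e => by simpa using M.fn.eq h1 (pm_mul h2 M.mκ) e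

theorem MD.inj {x x' : Γ} {y y' : G} (h1 : (x, y) ∈ Δ) (h2 : (x', y') ∈ Δ) (e : y = y') :
    x = x' ∨ x = x' * κ :=
  (M.ker (x'⁻¹ * x) (by simpa [e] using pm_mul (pm_inv h2) h1)).imp
    (fun e => (inv_mul_eq_one.mp e).symm) inv_mul_eq_iff_eq_mul.mp

theorem MD.p4 {v0 : Γ} (g : Good gs κ v0) : ∃ v, (v0, v) ∈ Δ ∧ P4 z v := by
  obtain ⟨v, m⟩ := M.down v0 g.mem
  obtain ⟨f1, f2, f3, f4, f5⟩ := g.sq
  obtain ⟨w0, f6, f7, f8⟩ := g.ex
  obtain ⟨w, m'⟩ := M.down w0 f6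
  have mz := M.mz
  refine ⟨v, m, M.cz _ _ m, M.eq (by gm) pm_one (by simpa using f1), fun e => ?_, fun e => ?_,
    ⟨w, M.cz _ _ m', comm_of_cj (M.eq (by gm) m f7), M.eq (by gm) mz f8⟩, fun u h1 h2 h3 => ?_⟩
  · simpa [f2, f3] using M.inj m pm_one e
  · simpa [f4, f5] using M.inj m mz e
  · obtain ⟨u0, h4, m1⟩ := M.lift u h1
    exact (g.al u0 h4 (M.inj (by gm) m (cj_of_comm h2))
      (by simpa using M.inj (x := u0 ^ 4 * u0 ^ 4) (by gm) pm_one h3)).imp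
      (fun e => M.eq (by gm) pm_one (by simpa using e)) (M.eq (by gm) mz)

theorem MD.false [Finite G] {Q : Subgroup G} (h : XQ z Q) {v0 v0' : Γ} (g : Good gs κ v0)
    (g' : Good gs κ v0') {k : List ℕ} (hκ : κ * κ = 1) (hc : ∀ x ∈ clo gs, x * κ = κ * x)
    (e : ∀ w ∈ clo gs, cd2 v0 κ w ∈ k) (n : min v0'.c (v0' * κ).c ∉ k) {x y : G}
    (t : ∀ u : G, orderOf u = 2 → IsConj u x ∨ IsConj u y) : False := by
  obtain ⟨v, m, p⟩ := M.p4 g
  obtain ⟨v', m', p'⟩ := M.p4 g'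
  refine h.three p p' (fun c h1 h2 => n ?_) t
  obtain ⟨c0, h3, m1⟩ := M.lift c h1
  have := e c0 h3
  rw [cd2, ← conj_mul, cj_of_comm (hc c0 h3)] at this
  rcases M.inj (by gm) m' h2 with e1 | e1 <;> rw [e1] at this
  · exact this
  · rwa [mul_assoc, hκ, mul_one, min_comm] at this

end

theorem MD.ht [Finite G] {z : G} {Δ : Subgroup (Γ × G)} (M : MD gB m0 z Δ)
    (c : Nat.card (centralizer ({z} : Set G)) = 21504) :
    ∃ a b c e f h i j k s r, HL.HT a b c z e f h i j k s r := by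
  have d : ∀ x ∈ gT, ∃ y, (x, y) ∈ Δ := fun x hx => M.down x (gT_le (mem_clo hx))
  simp only [List.forall_mem_cons] at d
  obtain ⟨⟨a, ma⟩, ⟨b, mb⟩, ⟨c, mc⟩, -, ⟨e, me⟩, ⟨f, mf⟩, ⟨h, mh⟩, ⟨i, mi⟩, ⟨j, mj⟩, ⟨k, mk⟩, ⟨s, ms⟩,
    ⟨r, mr⟩, -⟩ := d
  have l : gr (m0 :: gT) [1, a, b, c, z, e, f, h, i, j, k, s, r] ≤ Δ :=
    gr_le (by simp [M.mκ, M.mz, *])
  have l' : gr gT [a, b, c, z, e, f, h, i, j, k, s, r] ≤ Δ := (HL.clo_sub (by simp)).trans l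
  have q : ∀ x, x ∈ clo [a, b, c, z, e, f, h, i, j, k, s, r] ↔ x * z = z * x := fun x =>
    ⟨fun hx => (gr_left gT hx).elim fun _ m => M.cz _ _ (l' m.2), fun hx => by
      obtain ⟨x0, h1, h2⟩ := M.lift x hx
      exact clo_le (by simp [mem_clo, one_mem]) (mem_of_gr M.fn l h2 (gB_le h1)).1⟩
  refine ⟨a, b, c, e, f, h, i, j, k, s, r, fun w hw => M.eq (l' (ev_mem_gr (by rfl) w)) pm_one
    (by simpa using satT w hw), q, ?_⟩
  rw [← ‹Nat.card _ = 21504›]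
  exact card_le_of_le fun x hx => (q x).mpr (mem_centralizer_singleton_iff.mp hx)

theorem fM : s0 ^ 8 = s0 ∧ s0 ^ 7 = 1 ∧ (∀ w ∈ gQ, w * m0 = m0 * w) ∧ z0 * m0 * m0 = z0 ∧
    z0 * m0 * (z0 * m0 * m0) = m0 := by decide +kernel

variable [Finite G] {z : G} {Q : Subgroup G} (h : XQ z Q)
include h

theorem QD.fin {Δ : Subgroup (Γ × G)} (D : QD Δ z Q) {x0 : Γ} {R : List (List ℕ)}
    (sat : Sat (cA.R1 ++ R ++ cA.R3) [y0, y1, y2, y3, y4, y5, z0, s0, x0, m0, m0])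
    (le : ∀ ys : List (Γ × G), Sat (cA.R1 ++ R ++ cA.R3) ys → ys.length = 11 → Le (clo ys) 43008)
    (card : 43008 ≤ Nat.card (clo [y0, y1, y2, y3, y4, y5, z0, s0, x0, m0, m0]))
    (zc : ∀ x ∈ clo [y0, y1, y2, y3, y4, y5, z0, s0, x0, m0, m0], (∀ w ∈ gQ, x * w = w * x) →
      x ∈ [1, z0, m0, z0 * m0])
    (hc : ∀ l ∈ R, l.getD 0 0 / 2 ∈ [7, 8] ∧ l.getD 1 0 / 2 ∈ List.range 7 ∧ l.getD 0 0 % 2 = 0 ∧
      l = l.getD 0 0 :: l.getD 1 0 :: (l.getD 0 0 + 1) :: l.drop 3 ∧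
      ∀ y ∈ l.drop 3, y / 2 ∈ List.range 7)
    (f : (x0 * s0) ^ 3 = 1 ∧ x0 * x0 = m0 ∧ (x0 * s0 * x0⁻¹ * s0⁻¹) ^ 4 = m0)
    {σ x : G} (h1 : σ * z = z * σ) (h2 : x * z = z * x)
    (h3 : (s0, σ) ∈ normalizer (Δ : Set (Γ × G))) (h4 : (x0, x) ∈ normalizer (Δ : Set (Γ × G))) :
    ∃ κ Δ', (κ = m0 ∨ κ = z0 * m0) ∧ MD [y0, y1, y2, y3, y4, y5, z0, s0, x0, m0, m0] κ z Δ' := by
  obtain ⟨f1, f2, f3, f4, f5⟩ := fM
  have d : ∀ x ∈ gQ, ∃ y, (x, y) ∈ Δ := fun x hx => D.down x (mem_clo hx)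
  simp only [List.forall_mem_cons] at d
  obtain ⟨⟨a, ma⟩, ⟨b, mb⟩, ⟨c, mc⟩, ⟨d, md⟩, ⟨e, me⟩, ⟨g, mg⟩, -⟩ := d
  have mz := D.mz
  set N := normalizer (Δ : Set (Γ × G))
  have L1 : ∀ u0 u, Commute u z → (u0, u) ∈ N → u0 = 1 ∨ u0 = m0 → u = 1 ∨ u = z := fun u0 u hu m e =>
    h.cent u hu fun y hy => by
      obtain ⟨y0, m'⟩ := D.lift y hy
      refine comm_of_cj (D.fn.eq (HL.nj m m') m' (cj_of_comm ?_))
      rcases e with rfl | rfl
      exacts [by simp, (comm_clo f3 _ (D.mem _ _ m').1).symm]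
  have zN : ((1 : Γ), z) ∈ N := mem_normalizer_of_conj_mem fun p hp => by
    have e : ((1 : Γ), z) * p * ((1 : Γ), z)⁻¹ = p :=
      Prod.ext (by simp) (cj_of_comm (h.le _ (D.mem p.1 p.2 hp).2).symm)
    rwa [e]
  have sq : ∀ u, u = 1 ∨ u = z → u * u = 1 ∧ ∀ g, g * z = z * g → u * (g * (u * g⁻¹)) = 1 := by
    rintro _ (rfl | rfl)
    · simp
    · exact ⟨h.z2, fun g e => by rw [← mul_assoc g, cj_of_comm e, h.z2]⟩
  obtain ⟨σ, h1, h3, σ7⟩ : ∃ σ, Commute σ z ∧ (s0, σ) ∈ N ∧ σ ^ 7 = 1 :=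
    ⟨σ ^ 8, Commute.pow_left h1 8, f1 ▸ pm_pow h3, by
      rw [← pow_mul, mul_comm, pow_mul, show 8 = 2 * 4 from rfl, pow_mul, pow_two,
        (sq _ (L1 _ _ (Commute.pow_left h1 7) (pm_pow h3) (Or.inl f2))).1, one_pow]⟩
  obtain ⟨x, h2, h4, x3⟩ : ∃ x, Commute x z ∧ (x0, x) ∈ N ∧ (x * σ) ^ 3 = 1 := by
    rcases L1 _ _ ((Commute.mul_left h2 h1).pow_left 3) (pm_pow (pm_mul h4 h3)) (Or.inl f.1)
      with e | e
    · exact ⟨x, h2, h4, e⟩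
    · refine ⟨z * x, (Commute.refl z).mul_left h2, by simpa using pm_mul zN h4, ?_⟩
      rw [mul_assoc, (Commute.mul_left h2 h1).symm.mul_pow, e, ← pow_succ, show 3 + 1 = 2 * 2 from rfl,
        pow_mul, pow_two z, h.z2, one_pow]
  have h5 : (m0, x * x) ∈ N := f.2.1 ▸ pm_mul h4 h4
  have h6 : (m0, (x * σ * x⁻¹ * σ⁻¹) ^ 4) ∈ N := f.2.2 ▸ (by gm)
  have h7 := L1 _ _ (h2.mul_left h2) h5 (Or.inr rfl)
  have h8 := L1 _ _ ((((h2.mul_left h1).mul_left h2.inv_left).mul_left h1.inv_left).pow_left 4) h6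
    (Or.inr rfl)
  have r1 := (sq _ h7).1
  have r2 := (sq _ h8).1
  generalize hm : x * x = m at h5 h7
  generalize hn : (x * σ * x⁻¹ * σ⁻¹) ^ 4 = n at h6 h8
  have sH := sat
  simp only [Sat, List.forall_mem_append] at sH
  have am : AllM Δ [y0, y1, y2, y3, y4, y5, z0, s0, x0, m0, m0] [a, b, c, d, e, g, z, σ, x, m, n]
    (List.range 7) := ⟨ma, mb, mc, md, me, mg, mz, trivial⟩
  have sat' : Sat (cA.R1 ++ R ++ cA.R3) [a, b, c, d, e, g, z, σ, x, m, n] := by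
    refine Sat.append (Sat.append (Sat.tr D.fn am (by decide) sH.1.1)
      (Sat.act D.fn am (J := [7, 8]) ⟨h3, h4, trivial⟩ hc sH.1.2)) ?_
    simp only [Sat, cA.R3, List.forall_mem_cons]
    nth_rewrite 2 [hm] at r1
    nth_rewrite 2 [hn] at r2
    simp only [pow_succ, pow_zero, one_mul, mul_assoc] at σ7 x3 r1 r2
    simp [atm, σ7, x3, r1, r2, (sq _ h7).1, (sq _ h8).1, (sq _ h7).2 σ h1, (sq _ h8).2 σ h1,
      (sq _ h8).2 x h2]
  have fn := fn_of_le (le _ (sat.zip sat') rfl) card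
  set Δ' := gr [y0, y1, y2, y3, y4, y5, z0, s0, x0, m0, m0] [a, b, c, d, e, g, z, σ, x, m, n]
  have ΔN : Δ ≤ N := le_normalizer
  have l1 : Δ' ≤ N := gr_le (by simp [ΔN ma, ΔN mb, ΔN mc, ΔN md, ΔN me, ΔN mg, ΔN mz, *])
  have mz' : (z0, z) ∈ Δ' := mem_clo (by simp)
  have mm : (m0, m) ∈ Δ' := mem_clo (by simp)
  have k0 : ∀ u, (u, 1) ∈ Δ' → u = 1 ∨ u = m0 ∨ u = z0 * m0 := fun u m => by
    have := zc u (gr_mem m).1 fun w hw => by
      obtain ⟨w', m'⟩ := D.down w (mem_clo hw)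
      exact comm_of_cj (D.inj.eq (HL.nj (l1 m) m') m' (by simp))
    simpa [show u ≠ z0 from fun e => h.z1 (fn.eq mz' m e.symm)] using this
  have l2 : clo [a, b, c, d, e, g, z, σ, x, m, n] ≤ centralizer {z} := clo_le (by
    have k : ∀ u, u = 1 ∨ u = z → u * z = z * u := by rintro _ (rfl | rfl) <;> simp
    simp [mem_centralizer_singleton_iff, h.le _ (D.mem _ _ ma).2, h.le _ (D.mem _ _ mb).2,
      h.le _ (D.mem _ _ mc).2, h.le _ (D.mem _ _ md).2, h.le _ (D.mem _ _ me).2,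
      h.le _ (D.mem _ _ mg).2, h1.eq, h2.eq, k _ h7, k _ h8])
  have key : ∀ κ, (κ, 1) ∈ Δ' → (∀ u, (u, 1) ∈ Δ' → u = 1 ∨ u = κ) →
      MD [y0, y1, y2, y3, y4, y5, z0, s0, x0, m0, m0] κ z Δ' := fun κ m1 m2 => by
    have c1 := card_map_mul_card_ker_inf (MonoidHom.fst Γ G) Δ'
    have c2 := card_map_mul_card_ker_inf (MonoidHom.snd Γ G) Δ'
    have c3 : 0 < Nat.card ((MonoidHom.fst Γ G).ker ⊓ Δ' : Subgroup _) := Nat.card_pos
    have c4 : Nat.card ((MonoidHom.snd Γ G).ker ⊓ Δ' : Subgroup _) ≤ 2 := by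
      by_contra n
      obtain ⟨⟨u, v⟩, ⟨e1, e2⟩, e3⟩ := exists_not_mem_list [1, (κ, 1)] (not_le.mp n)
      obtain rfl : v = 1 := e1
      rcases m2 u e2 with rfl | rfl <;> simp [Prod.mk_one_one] at e3
    rw [gr_fst (by rfl)] at c1
    rw [gr_snd (by rfl)] at c2
    have e := eq_of_le_of_card_ge l2 (by rw [h.cardH]; nlinarith)
    exact ⟨fn, mz', m1, m2, fun _ _ m => mem_centralizer_singleton_iff.mp (l2 (gr_mem m).2),
      fun x hx => (gr_right _ hx).imp fun _ m => m.2, fun y hy =>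
        gr_left _ (e.ge (mem_centralizer_singleton_iff.mpr hy))⟩
  rcases h7 with rfl | rfl
  · refine ⟨m0, Δ', Or.inl rfl, key _ mm fun u m => (k0 u m).imp_right fun e => e.resolve_right ?_⟩
    rintro rfl
    exact h.z1 (by simpa using fn.eq mz' (pm_mul m mm) f4.symm)
  · have m1 : (z0 * m0, (1 : G)) ∈ Δ' := h.z2 ▸ pm_mul mz' mm
    refine ⟨z0 * m0, Δ', Or.inr rfl, key _ m1 fun u m => (k0 u m).imp_right fun e =>
      e.resolve_left ?_⟩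
    rintro rfl
    exact h.z1 (fn.eq mm m rfl)

theorem XQ.ht {σ x : G} (h1 : σ * z = z * σ) (σ7 : σ ^ 7 = 1) (σQ : σ ∉ Q) (h3 : x * z = z * x)
    (h4 : x * x ∈ Q) (h5 : x * σ * (x * σ) * (x * σ) ∈ Q) {u v : G}
    (t : ∀ w : G, orderOf w = 2 → IsConj w u ∨ IsConj w v) :
    ∃ a b c e f h i j k s r, HL.HT a b c z e f h i j k s r := by
  obtain ⟨Y, s1, s2⟩ := h.star h1 σ7 σQ
  have s : St z Q Y := ⟨fun i => (s1 i).1, fun i => (s1 i).2.1, s2⟩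
  obtain ⟨aσ, x, h3, c, hc, e⟩ := s.cls h h1 (fun i => (s1 i).2.2) h3 h4 h5
  have eσ : ∀ i < 6, ((⟨Sm.getD i 0⟩ : BV), σ * Y i * σ⁻¹) ∈ gr es (yl Y z) := fun i hi =>
    lin_pow Sm i ▸ aσ _ _ (th_Y hi)
  have A : ∀ Δ σ x, QD Δ z Q → σ * z = z * σ → x * z = z * x →
      (s0, σ) ∈ normalizer (Δ : Set (Γ × G)) → (xa, x) ∈ normalizer (Δ : Set (Γ × G)) → False :=
    fun Δ σ x D h1 h2 h3 h4 => by
      obtain ⟨κ, Δ', rfl | rfl, M⟩ := D.fin h satA (fun _ a b => leA a b) chA_card zA (by decide)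
        (by decide +kernel) h1 h2 h3 h4
      exacts [M.false h gA1 gA3 km cA1 eA1.2 nc.1 t, M.false h gA2 gA4 kz cA2 eA2.2 nc.2.1 t]
  obtain ⟨σ1, h6, h7⟩ := s.adj h satQ rfl rfl rfl (t0 := s0) (by decide +kernel) h1 eσ
  simp only [List.mem_cons, List.not_mem_nil, or_false] at hc
  rcases hc with rfl | rfl | rfl
  · obtain ⟨x1, h8, h9⟩ := s.adj h satQ rfl rfl rfl (t0 := xa) (by decide +kernel) h3 e
    exact (A _ _ _ (s.qd h satQ rfl rfl rfl).1 h6 h8 h7 h9).elim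
  · obtain ⟨x1, h8, h9⟩ := s.adj h satQ' cloQ' rfl rfl (t0 := xa) (by decide +kernel) h3 e
    obtain ⟨σ1, h6, h7⟩ := s.adj h satQ' cloQ' rfl rfl (t0 := s0⁻¹) (by decide +kernel) h1 eσ
    exact (A _ σ1⁻¹ _ (s.qd h satQ' cloQ' rfl rfl).1 (Commute.inv_left h6) h8
      (by simpa using pm_inv h7) h9).elim
  · obtain ⟨x1, h8, h9⟩ := s.adj h satQ rfl rfl rfl (t0 := xb) (by decide +kernel) h3 e
    obtain ⟨κ, Δ', rfl | rfl, M⟩ := (s.qd h satQ rfl rfl rfl).1.fin h satB (fun _ a b => leB a b)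
      chB_card zB
      (by decide) (by decide +kernel) h6 h8 h7 h9
    exacts [M.ht h.cardH, (M.false h gB1 gB2 kz cB2 eB1.2 nc.2.2 t).elim]

omit h in
theorem held [IsSimpleGroup G] {t : G} (ht : orderOf t = 2) {Q : Subgroup (centralizer ({t} : Set G))}
    [Q.Normal] (hQ : IsExtraspecial 2 Q) (hcard : Nat.card Q = 2 ^ 7)
    (h2c : centralizer (Q : Set (centralizer ({t} : Set G))) ≤ Q)
    (e : centralizer ({t} : Set G) ⧸ Q ≃* Matrix.SpecialLinearGroup (Fin 3) (ZMod 2))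
    (hG : Nat.card G = 4030387200) {u v : G}
    (two : ∀ w : G, orderOf w = 2 → IsConj w u ∨ IsConj w v) : Spor.IsoHe G := by
  have c : Nat.card (Matrix.SpecialLinearGroup (Fin 3) (ZMod 2)) = 168 := by
    have := Class.card_SL (F := ZMod 2) 3 (by norm_num)
    rw [ZMod.card, Fin.prod_univ_three] at this
    exact (one_mul _).symm.trans this
  have h := xq_of ht hQ hcard h2c (by rw [Nat.card_congr e.toEquiv, c])
  obtain ⟨X, S, f1, f2, f3, f4⟩ : ∃ X S : Matrix.SpecialLinearGroup (Fin 3) (ZMod 2), X * X = 1 ∧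
      S ^ 7 = 1 ∧ X * S * (X * S) * (X * S) = 1 ∧ S ≠ 1 :=
    ⟨⟨!![1, 0, 0; 1, 1, 0; 0, 0, 1], by decide +kernel⟩, ⟨!![0, 0, 1; 1, 0, 1; 0, 1, 0], by
      decide +kernel⟩, Subtype.ext (by decide +kernel), Subtype.ext (by decide +kernel),
      Subtype.ext (by decide +kernel), fun e => absurd (congrArg Subtype.val e) (by decide +kernel)⟩
  let π := e.toMonoidHom.comp (QuotientGroup.mk' Q)
  have hπ : Function.Surjective π := e.surjective.comp (QuotientGroup.mk'_surjective Q)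
  have kπ : ∀ x, π x = 1 ↔ (x : G) ∈ Q.map (centralizer ({t} : Set G)).subtype := fun x => by
    rw [show (x : G) = (centralizer ({t} : Set G)).subtype x from rfl,
      mem_map_iff_mem (subtype_injective _), ← QuotientGroup.eq_one_iff]
    exact map_eq_one_iff e e.injective
  obtain ⟨x, rfl⟩ := hπ X
  obtain ⟨s, rfl⟩ := hπ S
  have s8 : π (s ^ 8) = π s := by rw [map_pow, pow_succ, f2, one_mul]
  obtain ⟨a, b, c, e', f, h', i, j, k, s', r, H⟩ := h.ht (σ := (s ^ 8 :)) (x := x)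
    (mem_centralizer_singleton_iff.mp (s ^ 8).2) (by
      have : ((s : G) ^ 7) ^ 4 = 1 := by
        rw [show 4 = 2 * 2 from rfl, pow_mul, pow_two (_ ^ 7)]
        rcases h.sq _ ((kπ (s ^ 7)).mp (by rw [map_pow, f2])) with e | e <;>
          simp [(show (s : G) ^ 7 * s ^ 7 = _ from e), pow_two, h.z2]
      rw [coe_pow, ← pow_mul, show 8 * 7 = 7 * 4 * 2 from rfl, pow_mul, pow_mul, this, one_pow])
    (fun m => f4 (s8 ▸ (kπ _).mpr m)) (mem_centralizer_singleton_iff.mp x.2)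
    ((kπ (x * x)).mp (by rw [map_mul, f1]))
    ((kπ (x * s ^ 8 * (x * s ^ 8) * (x * s ^ 8))).mp (by simp only [map_mul, s8, f3])) two
  have c1 := HL.cardSL
  have c2 := Gol.card_M24
  rcases H.simple with ⟨⟨φ⟩⟩ | ⟨⟨φ⟩⟩ | φ
  · have := Nat.card_congr φ.toEquiv; omega
  · have := Nat.card_congr φ.toEquiv; omega
  · exact φ

end Cfsg.Agent.HX
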